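import Groth.Agent.BidualSchLib.Main
import Groth.Agent.DualCxLib.LocDualGor
import Groth.Agent.DualCxLib.Uniq
import Groth.Agent.DualCxLib.GorLoc
import Groth.Agent.DualCxLib.LocGlobal
import Groth.Agent.DRingLib.LBaseChange

/-!
# Dualizing complexes on an affine scheme agree up to shift near each point
-/

set_option autoImplicit false
set_option linter.all false
set_option backward.isDefEq.respectTransparency false
set_option backward.isDefEq.respectTransparency.types false
set_option maxHeartbeats 1000000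

universe u

open CategoryTheory CategoryTheory.Limits AlgebraicGeometry
open Groth.Agent Groth.Agent.DualCxLib
open DTenLib.Point (hH)

attribute [local instance] HasDerivedCategory.standard

noncomputable section

namespace UniqDualSchLib

variable {A : Type u} [CommRing A] [IsNoetherianRing A]

theorem exists_notMem_kill (p : PrimeSpectrum A) (N : Type u) [AddCommGroup N] [Module A N] [Module.Finite A N]
    (h : ∀ x : N, ∃ r ∉ p.asIdeal, r • x = 0) : ∃ t ∉ p.asIdeal, ∀ x : N, t • x = 0 := by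
  obtain ⟨t, ht, htp⟩ := SetLike.not_le_iff_exists.1 fun hle =>
    (Module.notMem_support_iff'.2 h) ((Module.mem_support_iff_of_finite (p := p)).2 hle)
  exact ⟨t, htp, Module.mem_annihilator.1 ht⟩

theorem exists_map_kill (p : PrimeSpectrum A) {X Y : Dual.D A}
    {Z W : Dual.D (Localization.AtPrime p.asIdeal)}
    {η : X ⟶ (DRing.restrictD (algebraMap A (Localization.AtPrime p.asIdeal))).obj Z}
    {ηY : Y ⟶ (DRing.restrictD (algebraMap A (Localization.AtPrime p.asIdeal))).obj W}
    (hL : IsLocH (algebraMap A (Localization.AtPrime p.asIdeal)) p.asIdeal.primeCompl η)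
    (hLY : IsLocH (algebraMap A (Localization.AtPrime p.asIdeal)) p.asIdeal.primeCompl ηY)
    (g : Z ≅ W) (f : X ⟶ Y)
    (hf : f ≫ ηY = η ≫ (DRing.restrictD (algebraMap A (Localization.AtPrime p.asIdeal))).map g.hom)
    (i : ℤ) [Module.Finite A ((hH A i).obj X)] [Module.Finite A ((hH A i).obj Y)] :
    ∃ t ∉ p.asIdeal, (∀ x, ((hH A i).map f).hom x = 0 → t • x = 0) ∧
      ∀ y, ∃ x, ((hH A i).map f).hom x = t • y := by
  let R := DRing.restrictD (algebraMap A (Localization.AtPrime p.asIdeal))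
  let a := ((hH A i).map η).hom
  let b := ((hH A i).map ηY).hom
  let g' := (((hH A i).mapIso (R.mapIso g)).toLinearEquiv)
  let φ := ((hH A i).map f).hom
  have sq : ∀ x, b (φ x) = g' (a x) := fun x => by
    have h := congrArg (fun z => (hH A i).map z) hf
    simp only [Functor.map_comp] at h
    exact congr($(h).hom x)
  haveI : IsLocalizedModule p.asIdeal.primeCompl a := hL i
  haveI : IsLocalizedModule p.asIdeal.primeCompl b := hLY i
  obtain ⟨t₁, h₁, k₁⟩ := exists_notMem_kill p (LinearMap.ker φ) fun x => by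
    have h0 : a x.1 = 0 := g'.injective (by rw [← sq, x.2, map_zero, map_zero])
    obtain ⟨s, hs⟩ := (IsLocalizedModule.eq_zero_iff p.asIdeal.primeCompl a).1 h0
    exact ⟨s, s.2, Subtype.ext hs⟩
  obtain ⟨t₂, h₂, k₂⟩ := exists_notMem_kill p (_ ⧸ LinearMap.range φ) fun z => by
    obtain ⟨y, rfl⟩ := Submodule.Quotient.mk_surjective _ z
    obtain ⟨⟨w, u⟩, hu⟩ := IsLocalizedModule.surj p.asIdeal.primeCompl a (g'.symm (b y))
    obtain ⟨c, hc⟩ := IsLocalizedModule.exists_of_eq (S := p.asIdeal.primeCompl) (f := b)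
      (x₁ := (u : A) • y) (x₂ := φ w) (by
        rw [sq, ← (show (u : A) • g'.symm (b y) = a w from hu), map_smul, map_smul, g'.apply_symm_apply])
    refine ⟨c * u, fun h => (p.isPrime.mem_or_mem h).elim c.2 u.2, ?_⟩
    rw [← Submodule.Quotient.mk_smul, Submodule.Quotient.mk_eq_zero, mul_smul]
    exact ⟨(c : A) • w, by rw [map_smul]; exact hc.symm⟩
  refine ⟨t₁ * t₂, fun h => (p.isPrime.mem_or_mem h).elim h₁ h₂, fun x hx => ?_, fun y => ?_⟩
  · rw [mul_comm, mul_smul, show t₁ • x = 0 from congrArg Subtype.val (k₁ ⟨x, hx⟩), smul_zero]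
  · have := k₂ (Submodule.Quotient.mk y)
    rw [← Submodule.Quotient.mk_smul, Submodule.Quotient.mk_eq_zero] at this
    obtain ⟨x, hx⟩ := this
    exact ⟨t₁ • x, by rw [map_smul, mul_smul]; exact congrArg (t₁ • ·) hx⟩

/-- Near a point two dualizing complexes are linked by a map killing kernels and cokernels. -/
theorem exists_link {ω ω' : Dual.D A} (hω : Dual.IsDualizing A ω) (hω' : Dual.IsDualizing A ω')
    (p : PrimeSpectrum A) : ∃ (n : ℤ) (f : ω ⟶ ω'⟦n⟧) (t : A), t ∉ p.asIdeal ∧ ∀ i,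
      (∀ x, ((hH A i).map f).hom x = 0 → t • x = 0) ∧ ∀ y, ∃ x, ((hH A i).map f).hom x = t • y := by
  classical
  let φ := algebraMap A (Localization.AtPrime p.asIdeal)
  haveI : DRing.HasLBaseChange φ := DRingLib.hasLBaseChange φ
  haveI : IsNoetherianRing (Localization.AtPrime p.asIdeal) :=
    IsLocalization.isNoetherianRing p.asIdeal.primeCompl _ inferInstance
  obtain ⟨η, hη, hL⟩ := exists_loc_base (S := Localization.AtPrime p.asIdeal) p.asIdeal.primeCompl ω
  obtain ⟨η', hη', hL'⟩ := exists_loc_base (S := Localization.AtPrime p.asIdeal) p.asIdeal.primeCompl ω'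
  obtain ⟨d, hR⟩ := isPointwiseDual_of_isDualizing (isDualizing_loc p.asIdeal.primeCompl hω hη hL)
  obtain ⟨d', hY⟩ := isPointwiseDual_of_isDualizing (isDualizing_loc p.asIdeal.primeCompl hω' hη' hL')
  obtain ⟨ψ⟩ := nonempty_iso_shift hR hY
  let n := d' - d
  let ηY := η'⟦n⟧' ≫ ((DRing.restrictD φ).commShiftIso n).inv.app _
  have hLY := isLocH_shift hL' n
  have hωn := isDualizing_shift hω' n
  obtain ⟨a, b, hab⟩ := hω.finite_injective_dimension
  obtain ⟨a', b', hab'⟩ := hωn.finite_injective_dimension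
  have hX : ∀ i, (i < a ∨ a + ((b + 1 - a).toNat : ℤ) ≤ i) → IsZero ((hH A i).obj ω) := fun i hi =>
    isZero_of_ext_ring i (hab _ i (by omega))
  obtain ⟨c, hc⟩ := isGE_dualizing hωn
  obtain ⟨s, hs, f, hf⟩ := (hom_loc hLY hc hX hω.finite_cohomology).2
    (η ≫ (DRing.restrictD φ).map ψ.inv)
  have hu : IsUnit (φ s) := IsLocalization.map_units _ (⟨s, hs⟩ : p.asIdeal.primeCompl)
  obtain ⟨v, hv⟩ := hu
  let g : _ ≅ _ :=
    { hom := φ s • ψ.inv
      inv := ((v⁻¹ : (Localization.AtPrime p.asIdeal)ˣ) : Localization.AtPrime p.asIdeal) • ψ.hom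
      hom_inv_id := by
        rw [Linear.smul_comp, Linear.comp_smul, ψ.inv_hom_id, ← mul_smul, ← hv, Units.mul_inv, one_smul]
      inv_hom_id := by
        rw [Linear.smul_comp, Linear.comp_smul, ψ.hom_inv_id, ← mul_smul, ← hv, Units.inv_mul, one_smul] }
  have hf' : f ≫ ηY = η ≫ (DRing.restrictD φ).map g.hom := by
    rw [← hf]
    show s • (η ≫ _) = η ≫ (DRing.restrictD φ).map (φ s • ψ.inv)
    rw [restrictD_smul, Linear.comp_smul]
  have H : ∀ i, ∃ t ∉ p.asIdeal, (∀ x, ((hH A i).map f).hom x = 0 → t • x = 0) ∧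
      ∀ y, ∃ x, ((hH A i).map f).hom x = t • y := fun i => by
    haveI := hω.finite_cohomology i
    haveI := hωn.finite_cohomology i
    exact exists_map_kill p hL hLY g f hf' i
  choose u hu hk hc' using H
  let I := Finset.Icc a b ∪ Finset.Icc a' b'
  refine ⟨n, f, ∏ i ∈ I, u i, fun h => ?_, fun i => ?_⟩
  · obtain ⟨i, -, h'⟩ := p.isPrime.prod_mem_iff.1 h
    exact hu i h'
  by_cases hi : i ∈ I
  · obtain ⟨r, hr⟩ : u i ∣ ∏ i ∈ I, u i := Finset.dvd_prod_of_mem u hi
    refine ⟨fun x hx => by rw [hr, mul_comm, mul_smul, hk i x hx, smul_zero], fun y => ?_⟩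
    obtain ⟨x, hx⟩ := hc' i y
    exact ⟨r • x, by rw [map_smul, hx, hr, mul_comm (u i) r, mul_smul]⟩
  · simp only [I, Finset.mem_union, Finset.mem_Icc, not_or] at hi
    haveI := ModuleCat.subsingleton_of_isZero (isZero_of_ext_ring i (hab _ i (by omega)))
    haveI := ModuleCat.subsingleton_of_isZero (isZero_of_ext_ring i (hab' _ i (by omega)))
    exact ⟨fun x _ => Subsingleton.elim _ _, fun y => ⟨0, Subsingleton.elim _ _⟩⟩

theorem subsingleton_stalk_tilde_of_kill (N : ModuleCat.{u} A) (t : A) (h : ∀ x : N, t • x = 0)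
    (q : PrimeSpectrum A) (hq : t ∉ q.asIdeal) :
    Subsingleton (((tilde.functor (CommRingCat.of A)).obj N).presheaf.stalk q) := by
  haveI : Subsingleton (LocalizedModule q.asIdeal.primeCompl N) :=
    LocalizedModule.subsingleton_iff.2 fun m => ⟨t, hq, h m⟩
  exact (stalkTilde (CommRingCat.of A) N q).symm.subsingleton

theorem isIso_restrict_tildeD [∀ (R : CommRingCat.{u}), PreservesFiniteLimits (tilde.functor R)]
    (W : (Spec (CommRingCat.of A)).Opens) [PreservesFiniteLimits (Scheme.Modules.restrictFunctor W.ι)]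
    {X Y : Dual.D A} (f : X ⟶ Y) (t : A) (hW : ∀ q ∈ W, t ∉ (q : PrimeSpectrum A).asIdeal)
    (h : ∀ i, (∀ x, ((hH A i).map f).hom x = 0 → t • x = 0) ∧ ∀ y, ∃ x, ((hH A i).map f).hom x = t • y) :
    IsIso ((DCoh.restrictD W.ι).map ((DCoh.tildeD (CommRingCat.of A)).map f)) := by
  rw [DerivedCategory.isIso_iff]
  intro i
  refine (NatIso.isIso_map_iff (DerLib.ExactHomology.homologyIso (Scheme.Modules.restrictFunctor W.ι) i)
    ((DCoh.tildeD (CommRingCat.of A)).map f)).2 ?_
  let T := tilde.functor (CommRingCat.of A)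
  haveI : T.Additive := instAdditiveModuleCatCarrierModulesSpecOfFunctor (R := CommRingCat.of A)
  haveI := TildeDerLib.preservesFiniteColimits_tilde (CommRingCat.of A)
  let φ : ModuleCat.of A ((hH A i).obj X) ⟶ ModuleCat.of A ((hH A i).obj Y) := (hH A i).map f
  show IsIso ((Scheme.Modules.restrictFunctor W.ι).map ((DerivedCategory.homologyFunctor _ i).map _))
  refine @FiltSectLib.isIso_of_stalks _ _ _ _ fun w => ?_
  have hk : IsIso ((DerSch.stalkFunctor (Spec (CommRingCat.of A)) (W.ι w)).map (T.map φ)) := by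
    have hz : ∀ N : ModuleCat.{u} A, (∀ x : N, t • x = 0) →
        IsZero ((T ⋙ DerSch.stalkFunctor (Spec (CommRingCat.of A)) (W.ι w)).obj N) := fun N hN => by
      haveI : Subsingleton ((DerSch.stalkFunctor (Spec (CommRingCat.of A)) (W.ι w)).obj (T.obj N)) :=
        subsingleton_stalk_tilde_of_kill N t hN _ (hW _ w.2)
      exact @ModuleCat.isZero_of_subsingleton _ _ _ this
    let G := T ⋙ DerSch.stalkFunctor (Spec (CommRingCat.of A)) (W.ι w)
    haveI : Mono (G.map φ) := Preadditive.mono_of_isZero_kernel _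
      ((hz (ModuleCat.of A (LinearMap.ker φ.hom)) fun x => Subtype.ext ((h i).1 x.1 x.2)).of_iso
        ((PreservesKernel.iso G φ).symm ≪≫ G.mapIso (ModuleCat.kernelIsoKer φ)))
    haveI : Epi (G.map φ) := Preadditive.epi_of_isZero_cokernel _
      ((hz (ModuleCat.of A (_ ⧸ LinearMap.range φ.hom)) fun z => by
          obtain ⟨y, rfl⟩ := Submodule.Quotient.mk_surjective _ z
          obtain ⟨x, hx⟩ := (h i).2 y
          rw [← Submodule.Quotient.mk_smul, Submodule.Quotient.mk_eq_zero]
          exact ⟨x, hx⟩).of_iso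
        ((PreservesCokernel.iso G φ).symm ≪≫ G.mapIso (ModuleCat.cokernelIsoRangeQuotient φ)))
    exact isIso_of_mono_of_epi (G.map φ)
  haveI hk' : IsIso ((DerSch.stalkFunctor (Spec (CommRingCat.of A)) (W.ι w)).map
      ((DerivedCategory.homologyFunctor _ i).map ((DCoh.tildeD (CommRingCat.of A)).map f))) :=
    (NatIso.isIso_map_iff (Functor.isoWhiskerRight (DerLib.ExactHomology.homologyIso T i)
      (DerSch.stalkFunctor (Spec (CommRingCat.of A)) (W.ι w))) f).2 hk
  let F := (DerivedCategory.homologyFunctor _ i).map ((DCoh.tildeD (CommRingCat.of A)).map f)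
  rw [ConcreteCategory.isIso_iff_bijective]
  haveI h1 : IsIso ((Scheme.Modules.toPresheaf (Spec (CommRingCat.of A)) ⋙
      TopCat.Presheaf.stalkFunctor Ab.{u} (W.ι w : (Spec (CommRingCat.of A)).toTopCat)).map F) :=
    (ConcreteCategory.isIso_iff_bijective _).2
      (@ConcreteCategory.bijective_of_isIso _ _ _ _ _ _ _ _
        ((DerSch.stalkFunctor (Spec (CommRingCat.of A)) (W.ι w)).map F) hk')
  haveI h2 := (NatIso.isIso_map_iff (Scheme.Modules.restrictStalkNatIso W.ι w) F).2 h1
  exact @ConcreteCategory.bijective_of_isIso _ _ _ _ _ _ _ _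
    ((Scheme.Modules.restrictFunctor W.ι ⋙ Scheme.Modules.toPresheaf (W : Scheme.{u}) ⋙
      TopCat.Presheaf.stalkFunctor Ab.{u} (w : (W : Scheme.{u}).toTopCat)).map F) h2

end UniqDualSchLib
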