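import Groth.Agent.UniqDualSchLib.Pairing
import Groth.Agent.UniqDualSchLib.Loc
import Groth.Agent.DualCxLib.SchGor

/-!
# Uniqueness of dualizing complexes on a scheme
-/

set_option autoImplicit false
set_option linter.all false
set_option backward.isDefEq.respectTransparency false
set_option backward.isDefEq.respectTransparency.types false
set_option maxHeartbeats 1000000

universe u

open CategoryTheory CategoryTheory.Limits AlgebraicGeometry HomologicalComplex
open Groth.Agent Groth.Agent.DerLib Groth.Agent.PerfDualLib Groth.Agent.DualCxLib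

attribute [local instance] HasDerivedCategory.standard

noncomputable section

namespace UniqDualSchLib

variable {X : Scheme.{u}} [IsLocallyNoetherian X]
  [∀ (U V : Scheme.{u}) (j : U ⟶ V) [IsOpenImmersion j], PreservesFiniteLimits (Scheme.Modules.restrictFunctor j)]
  [∀ (R : CommRingCat.{u}), PreservesFiniteLimits (tilde.functor R)]

theorem exists_shift_iso {K K' : DCoh.D X} (hK : Dual2.IsDualizingSch X K) (hK' : Dual2.IsDualizingSch X K')
    (x : X) : ∃ (V : X.Opens) (n : ℤ), x ∈ V ∧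
      Nonempty ((DCoh.restrictD V.ι).obj K ≅ (DCoh.restrictD V.ι).obj (K'⟦n⟧)) := by
  obtain ⟨A, _, _, j, _, p, rfl⟩ := chart_of_point x
  obtain ⟨ω, hω, ⟨e⟩⟩ := hK A j
  obtain ⟨ω', hω', ⟨e'⟩⟩ := hK' A j
  obtain ⟨n, f, t, ht, h⟩ := exists_link hω hω' p
  let W : (Spec (CommRingCat.of A)).Opens := PrimeSpectrum.basicOpen t
  haveI := isIso_restrict_tildeD W f t (fun q hq => hq) h
  let j' := W.ι ≫ j
  let g := (Scheme.Hom.isoOpensRange j').inv
  refine ⟨j'.opensRange, n, ⟨⟨p, ht⟩, rfl⟩, ⟨?_⟩⟩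
  exact (restrictCongrIso (Scheme.Hom.isoOpensRange_inv_comp j').symm K ≪≫ restrictCompIso g j' K ≪≫
    (DCoh.restrictD g).mapIso (restrictCompIso W.ι j K ≪≫ (DCoh.restrictD W.ι).mapIso e ≪≫
      asIso ((DCoh.restrictD W.ι).map ((DCoh.tildeD (CommRingCat.of A)).map f)) ≪≫
      (DCoh.restrictD W.ι).mapIso (((DCoh.tildeD (CommRingCat.of A)).commShiftIso n).app ω' ≪≫
        (shiftFunctor _ n).mapIso e'.symm ≪≫ (((DCoh.restrictD j).commShiftIso n).app K').symm) ≪≫
      (restrictCompIso W.ι j (K'⟦n⟧)).symm) ≪≫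
    (restrictCompIso g j' (K'⟦n⟧)).symm ≪≫
    restrictCongrIso (Scheme.Hom.isoOpensRange_inv_comp j') (K'⟦n⟧))

theorem main (K K' : DCoh.D X) (hK : Dual2.IsDualizingSch X K) (hK' : Dual2.IsDualizingSch X K') :
    ∃ (E : Cx X) (_ : DCoh.HasLTensorCx E), Dual3.IsInvertibleD (DCoh.toD X E) ∧
      Nonempty (K' ≅ (DCoh.LTensorCx E).obj K) := by
  obtain ⟨I, hI, ⟨eI⟩⟩ := KInjUse.exists_iso_Q_kInjective K
  obtain ⟨I', hI', ⟨eI'⟩⟩ := KInjUse.exists_iso_Q_kInjective K'
  haveI := hI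
  haveI := hI'
  have hu : ∀ (V : X.Opens) (y : ℤ), BidualSchLib.Refl V I' (uSh X y) := fun V y => by
    refine refl_uSh (fun z _ => ?_) y
    obtain ⟨A, _, _, j, _, p, rfl⟩ := chart_of_point z
    obtain ⟨ω', hω', ⟨e'⟩⟩ := hK' A j
    exact BidualSchLib.quasiIso_ev_unit j I' hω' ((DCoh.restrictD j).mapIso eI'.symm ≪≫ e')
      (BidualSchLib.isCoh_homology_dualizing hK' eI'.symm) p
  let E := (KFlatLib.resP X).obj (iG I I')
  have hE : DCoh.IsKFlat E := (KFlatLib.good_resP _).1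
  haveI := KFlatLib.hasLTensorCx E
  have key : ∀ x : X, ∃ (V : X.Opens) (n : ℤ), x ∈ V ∧ QisOn V (pair I' I) ∧
      Nonempty ((DCoh.restrictD V.ι).obj (DerivedCategory.Q.obj E) ≅
        (DCoh.restrictD V.ι).obj (DerivedCategory.Q.obj (uSh X n))) := by
    intro x
    obtain ⟨V, n, hxV, ⟨a⟩⟩ := exists_shift_iso hK hK' x
    let C := uSh X (-n)
    let G1 := iG C I'
    haveI : G1.IsKInjective := isKInjective_iG (isKFlat_uSh (-n)) I'
    haveI : ((rC V).obj G1).IsKInjective := BidualSchLib.isKInjective_rJ V.ι G1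
    let eG : DerivedCategory.Q.obj G1 ≅ K'⟦n⟧ :=
      DerivedCategory.Q.mapIso ((gShiftIso (-n)).app I' ≪≫ eqToIso (by rw [neg_neg])) ≪≫
        (DerivedCategory.Q.commShiftIso n).app I' ≪≫ (shiftFunctor _ n).mapIso eI'.symm
    let fac := (Scheme.Modules.restrictFunctor V.ι).mapDerivedCategoryFactors
    obtain ⟨g, hg⟩ := KInjUse.Q_map_surjective ((rC V).obj I) ((rC V).obj G1)
      ((fac.app I).inv ≫ ((DCoh.restrictD V.ι).mapIso eI.symm ≪≫ a ≪≫ (DCoh.restrictD V.ι).mapIso eG.symm).hom ≫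
        (fac.app G1).hom)
    haveI : IsIso (DerivedCategory.Q.map g) := by rw [hg]; infer_instance
    haveI : QuasiIso g := (DerivedCategory.isIso_Q_map_iff_quasiIso _ g).1 inferInstance
    let S := (jC V).obj ((rC V).obj I)
    let c : S ⟶ I := ((cadj V).homEquiv _ I).symm (𝟙 _)
    let u : S ⟶ G1 := ((cadj V).homEquiv _ G1).symm g
    have hc : QisOn V c := qisOn_adjunct V (𝟙 _)
    have hu' : QisOn V u := qisOn_adjunct V g
    refine ⟨V, -n, hxV, (qisOn_pair_iff I' hc).1 ((qisOn_pair_iff I' hu').2 (qisOn_pair_dual I' (-n) (hu V (-n)))), ?_⟩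
    haveI := isIso_restrictD_of_qisOn V (qisOn_gm hc I')
    haveI := isIso_restrictD_of_qisOn V (qisOn_gm hu' I')
    haveI := isIso_restrictD_of_qisOn V (hu V (-n))
    haveI := KFlatLib.quasiIso_resψ (iG I I')
    let q : E ⟶ iG I I' := (KFlatLib.resψ X).app (iG I I')
    let R := DCoh.restrictD V.ι
    exact ⟨R.mapIso (asIso (DerivedCategory.Q.map q)) ≪≫ asIso (R.map (DerivedCategory.Q.map (gm c I'))) ≪≫
      (asIso (R.map (DerivedCategory.Q.map (gm u I')))).symm ≪≫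
      (asIso (R.map (DerivedCategory.Q.map (BidualSchLib.ev C I')))).symm⟩
  refine ⟨E, inferInstance, fun x => ?_, ⟨?_⟩⟩
  · obtain ⟨V, n, hxV, -, ⟨e⟩⟩ := key x
    exact ⟨V, n, hxV, ⟨e ≪≫ (DCoh.restrictD V.ι).mapIso ((DerivedCategory.Q.commShiftIso n).app (unitCx X) ≪≫
        (shiftFunctor _ n).mapIso
          ((DerivedCategory.singleFunctorIsoCompQ X.Modules 0).app (Coh.structureModule X)).symm) ≪≫
      ((DCoh.restrictD V.ι).commShiftIso n).app _ ≪≫ (shiftFunctor _ n).mapIso (restrictInDUnit V.ι)⟩⟩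
  · haveI : QuasiIso (pair I' I) := quasiIso_of_qisOn_top fun x _ => by
      obtain ⟨V, n, hxV, h, -⟩ := key x
      exact h x hxV
    haveI : IsIso (DerivedCategory.Q.map (pair I' I)) := inferInstance
    exact eI' ≪≫ (asIso (DerivedCategory.Q.map (pair I' I))).symm ≪≫
      DerivedCategory.Q.mapIso (KFlatLib.tCxFlip I E) ≪≫
      ((TensorAssocLib.flatCnt E hE).app I).symm ≪≫ (DCoh.LTensorCx E).mapIso eI.symm

end UniqDualSchLib
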