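import Groth.Agent.UniqDualSchLib.Twist

/-!
# The evaluation pairing with a K-flat replacement of the internal hom
-/

set_option autoImplicit false
set_option linter.all false
set_option backward.isDefEq.respectTransparency false
set_option backward.isDefEq.respectTransparency.types false
set_option maxHeartbeats 1000000

universe u

open CategoryTheory CategoryTheory.Limits AlgebraicGeometry HomologicalComplex
open Groth.Agent Groth.Agent.DerLib Groth.Agent.PerfDualLib

attribute [local instance] HasDerivedCategory.standard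

noncomputable section

namespace UniqDualSchLib

variable {X : Scheme.{u}}

/-- The tensor product of two maps. -/
abbrev bm {P P' C C' : Cx X} (f : P ⟶ P') (g : C ⟶ C') :=
  mapBifunctorMap f g (Tb X) (ComplexShape.up ℤ)

theorem bm_comp {P P' P'' C C' C'' : Cx X} (f : P ⟶ P') (f' : P' ⟶ P'') (g : C ⟶ C') (g' : C' ⟶ C'') :
    bm (f ≫ f') (g ≫ g') = bm f g ≫ bm f' g' := by
  refine HomologicalComplex.hom_ext _ _ fun n => mapBifunctor.hom_ext fun p q h => ?_
  simp [bm]

variable (I' : Cx X)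

/-- The pairing. -/
def pair (C : Cx X) : KFlatLib.tCx ((KFlatLib.resP X).obj (iG C I')) C ⟶ I' :=
  bm ((KFlatLib.resψ X).app (iG C I')) (𝟙 C) ≫ (Gen.gAdj (Tb X) C).counit.app I'

theorem pair_natural {C C' : Cx X} (κ : C ⟶ C') :
    bm ((KFlatLib.resP X).map (gm κ I')) (𝟙 C) ≫ pair I' C =
      bm (𝟙 ((KFlatLib.resP X).obj (iG C' I'))) κ ≫ pair I' C' := by
  have h1 : (KFlatLib.resP X).map (gm κ I') ≫ (KFlatLib.resψ X).app (iG C I') =
      (KFlatLib.resψ X).app (iG C' I') ≫ gm κ I' := (KFlatLib.resψ X).naturality (gm κ I')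
  have h3 : bm (gm κ I') (𝟙 C) ≫ (Gen.gAdj (Tb X) C).counit.app I' =
      bm (𝟙 (iG C' I')) κ ≫ (Gen.gAdj (Tb X) C').counit.app I' :=
    conjugateEquiv_counit (Gen.gAdj (Tb X) C') (Gen.gAdj (Tb X) C) ((Tb X).map₂CochainComplex.flip.map κ) I'
  calc _ = bm ((KFlatLib.resψ X).app (iG C' I')) (𝟙 C) ≫ bm (gm κ I') (𝟙 C) ≫
          (Gen.gAdj (Tb X) C).counit.app I' := by
        rw [pair, ← Category.assoc, ← Category.assoc, ← bm_comp, ← bm_comp, h1]
    _ = bm ((KFlatLib.resψ X).app (iG C' I')) (𝟙 C) ≫ bm (𝟙 (iG C' I')) κ ≫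
          (Gen.gAdj (Tb X) C').counit.app I' := by rw [h3]
    _ = _ := by
        rw [pair, ← Category.assoc, ← Category.assoc, ← bm_comp, ← bm_comp]
        simp only [Category.comp_id, Category.id_comp]
        exact congrArg (fun f => bm f κ ≫ (Gen.gAdj (Tb X) C').counit.app I') (Category.comp_id _)

/-- Maps between K-flat complexes of modules over a ring. -/
theorem quasiIso_tMap_kFlat {R : Type u} [CommRing R] {P P' : CochainComplex (ModuleCat.{u} R) ℤ}
    (hP : DRing.IsKFlat R P) (hP' : DRing.IsKFlat R P') (f : P ⟶ P') [QuasiIso f]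
    (C : CochainComplex (ModuleCat.{u} R) ℤ) : QuasiIso (KFlatLib.tMap f (𝟙 C)) := by
  let π : (DRingLib.resP R).obj C ⟶ C := (DRingLib.resψ R).app C
  haveI : QuasiIso π := DRingLib.quasiIso_resψ C
  haveI := KFlatLib.quasiIso_tMap_right (DRingLib.good_resP C).1 f
  haveI := KFlatLib.quasiIso_tMap_left hP π
  haveI := KFlatLib.quasiIso_tMap_left hP' π
  have h : KFlatLib.tMap (𝟙 P) π ≫ KFlatLib.tMap f (𝟙 C) =
      KFlatLib.tMap f (𝟙 _) ≫ KFlatLib.tMap (𝟙 P') π :=
    ((MonoidalCategory.curriedTensor (ModuleCat.{u} R)).map₂CochainComplex.map f).naturality π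
  haveI : QuasiIso (KFlatLib.tMap (𝟙 P) π ≫ KFlatLib.tMap f (𝟙 C)) := by rw [h]; infer_instance
  exact quasiIso_of_comp_left (KFlatLib.tMap (𝟙 P) π) _

variable {U : X.Opens}

theorem quasiIso_stalk_bm {P P' C C' : Cx X} (f : P ⟶ P') (g : C ⟶ C') (x : X)
    (h : QuasiIso (KFlatLib.tMap ((KFlatLib.stalkCx X x).map f) ((KFlatLib.stalkCx X x).map g))) :
    QuasiIso ((KFlatLib.stalkCx X x).map (bm f g)) := by
  have e := KFlatLib.stalkTensorCxIso_natural x f g
  haveI := h
  haveI : QuasiIso ((KFlatLib.stalkTensorCxIso x P C).hom ≫ (KFlatLib.stalkCx X x).map (bm f g)) := by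
    rw [← e]
    exact inferInstanceAs (QuasiIso (KFlatLib.tMap ((KFlatLib.stalkCx X x).map f) ((KFlatLib.stalkCx X x).map g) ≫
      (KFlatLib.stalkTensorCxIso x P' C').hom))
  exact quasiIso_of_comp_left (KFlatLib.stalkTensorCxIso x P C).hom _

theorem qisOn_bm_left {P P' : Cx X} (hP : DCoh.IsKFlat P) (hP' : DCoh.IsKFlat P') {f : P ⟶ P'}
    (hf : QisOn U f) (C : Cx X) : QisOn U (bm f (𝟙 C)) := fun x hx => by
  refine quasiIso_stalk_bm f (𝟙 C) x ?_
  rw [CategoryTheory.Functor.map_id]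
  haveI := hf x hx
  exact quasiIso_tMap_kFlat (KFlatLib.stalks_isKFlat hP x) (KFlatLib.stalks_isKFlat hP' x) _ _

theorem qisOn_bm_right {P : Cx X} (hP : DCoh.IsKFlat P) {C C' : Cx X} {g : C ⟶ C'} (hg : QisOn U g) :
    QisOn U (bm (𝟙 P) g) := fun x hx => by
  refine quasiIso_stalk_bm (𝟙 P) g x ?_
  rw [CategoryTheory.Functor.map_id]
  haveI := hg x hx
  exact KFlatLib.quasiIso_tMap_left (KFlatLib.stalks_isKFlat hP x) _

theorem qisOn_resP_map {A B : Cx X} {f : A ⟶ B} (hf : QisOn U f) : QisOn U ((KFlatLib.resP X).map f) :=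
  fun x hx => by
    haveI := hf x hx
    haveI := (KFlatLib.quasiIso_iff_stalks ((KFlatLib.resψ X).app A)).1 (KFlatLib.quasiIso_resψ A) x
    haveI := (KFlatLib.quasiIso_iff_stalks ((KFlatLib.resψ X).app B)).1 (KFlatLib.quasiIso_resψ B) x
    have h : (KFlatLib.stalkCx X x).map ((KFlatLib.resP X).map f) ≫ (KFlatLib.stalkCx X x).map ((KFlatLib.resψ X).app B) =
        (KFlatLib.stalkCx X x).map ((KFlatLib.resψ X).app A) ≫ (KFlatLib.stalkCx X x).map f := by
      rw [← Functor.map_comp, ← Functor.map_comp]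
      exact congrArg _ ((KFlatLib.resψ X).naturality f)
    haveI : QuasiIso ((KFlatLib.stalkCx X x).map ((KFlatLib.resP X).map f) ≫
        (KFlatLib.stalkCx X x).map ((KFlatLib.resψ X).app B)) := by rw [h]; infer_instance
    exact quasiIso_of_comp_right _ ((KFlatLib.stalkCx X x).map ((KFlatLib.resψ X).app B))

theorem qisOn_comp_iff {A B C : Cx X} {f : A ⟶ B} {g : B ⟶ C} (hf : QisOn U f) :
    QisOn U (f ≫ g) ↔ QisOn U g :=
  ⟨fun h x hx => by
    haveI := hf x hx
    haveI := h x hx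
    haveI : QuasiIso ((KFlatLib.stalkCx X x).map f ≫ (KFlatLib.stalkCx X x).map g) := by
      rw [← Functor.map_comp]; infer_instance
    exact quasiIso_of_comp_left ((KFlatLib.stalkCx X x).map f) _, fun h => hf.comp h⟩

variable [I'.IsKInjective]

theorem qisOn_pair_iff {C C' : Cx X} {κ : C ⟶ C'} (hκ : QisOn U κ) :
    QisOn U (pair I' C) ↔ QisOn U (pair I' C') :=
  (qisOn_comp_iff (qisOn_bm_left (KFlatLib.good_resP _).1 (KFlatLib.good_resP _).1
      (qisOn_resP_map (qisOn_gm hκ I')) C)).symm.trans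
    (by
      rw [pair_natural I' κ]
      exact qisOn_comp_iff (qisOn_bm_right (KFlatLib.good_resP _).1 hκ))

/-- The pairing for the dual of a shifted unit. -/
theorem qisOn_pair_dual (y : ℤ) (h : BidualSchLib.Refl U I' (uSh X y)) :
    QisOn U (pair I' (iG (uSh X y) I')) := by
  let G := iG (uSh X y) I'
  let e := BidualSchLib.ev (uSh X y) I'
  refine (qisOn_comp_iff (qisOn_bm_left (KFlatLib.good_resP _).1 (KFlatLib.good_resP _).1
    (qisOn_resP_map (f := e) h) G)).1 ?_
  have hh : bm ((KFlatLib.resP X).map e) (𝟙 G) ≫ pair I' G =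
      bm ((KFlatLib.resψ X).app (uSh X y)) (𝟙 G) ≫
        ((KFlatLib.tCxFlip G (uSh X y)).hom ≫ (Gen.gAdj (Tb X) (uSh X y)).counit.app I') := by
    have h1 : bm e (𝟙 G) ≫ (Gen.gAdj (Tb X) G).counit.app I' =
        (KFlatLib.tCxFlip G (uSh X y)).hom ≫ (Gen.gAdj (Tb X) (uSh X y)).counit.app I' :=
      ((Gen.gAdj (Tb X) G).homEquiv_counit _ _ _).symm.trans (BidualSchLib.adjunct_ev (uSh X y) I')
    have hn : (KFlatLib.resP X).map e ≫ (KFlatLib.resψ X).app (iG G I') =
        (KFlatLib.resψ X).app (uSh X y) ≫ e := (KFlatLib.resψ X).naturality e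
    rw [← h1, pair, ← Category.assoc, ← Category.assoc, ← bm_comp, ← bm_comp, hn]
  rw [hh]
  haveI := isIso_counit_uSh y I'
  haveI := KFlatLib.quasiIso_resψ (uSh X y)
  exact (qisOn_bm_left (KFlatLib.good_resP _).1 (isKFlat_uSh y) (QisOn.of_quasiIso U _) G).comp
    (QisOn.of_quasiIso U _)

end UniqDualSchLib
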