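import Groth.Agent.BidualSchLib.Main
import Groth.Agent.PerfDualLib.Dual
import Groth.Agent.KFlatLib.PerfectPull
import Groth.Agent.KFlatLib.Cone

/-!
# Shifts of the unit complex
-/

set_option autoImplicit false
set_option linter.all false
set_option backward.isDefEq.respectTransparency false
set_option backward.isDefEq.respectTransparency.types false
set_option maxHeartbeats 1000000

universe u

open CategoryTheory CategoryTheory.Limits AlgebraicGeometry HomologicalComplex Pretriangulated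
open Groth.Agent Groth.Agent.DerLib Groth.Agent.PerfDualLib

attribute [local instance] HasDerivedCategory.standard

noncomputable section

namespace UniqDualSchLib

section Nat

variable {C₁ C₂ D : Type*} [Category C₁] [Category C₂] [Category D] [Preadditive C₁] [Preadditive C₂]
  [Preadditive D] {K₁ L₁ : CochainComplex C₁ ℤ} (f : K₁ ⟶ L₁) (K₂ : CochainComplex C₂ ℤ)
  (F : C₁ ⥤ C₂ ⥤ D) [F.Additive] [∀ (X₁ : C₁), (F.obj X₁).Additive] (y : ℤ)
  [CochainComplex.HasMapBifunctor K₁ K₂ F] [CochainComplex.HasMapBifunctor L₁ K₂ F]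

theorem mapBifunctorShift₂Iso_naturality₁ :
    mapBifunctorMap f (𝟙 (K₂⟦y⟧)) F (ComplexShape.up ℤ) ≫ (CochainComplex.mapBifunctorShift₂Iso L₁ K₂ F y).hom =
      (CochainComplex.mapBifunctorShift₂Iso K₁ K₂ F y).hom ≫
        (mapBifunctorMap f (𝟙 K₂) F (ComplexShape.up ℤ))⟦y⟧' := by
  ext n p q h
  simp [CochainComplex.ι_mapBifunctorShift₂Iso_hom_f _ _ _ _ _ _ _ h (q + y) (n + y) rfl rfl,
    CochainComplex.ι_mapBifunctorShift₂Iso_hom_f_assoc _ _ _ _ _ _ _ h (q + y) (n + y) rfl rfl]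
  congr 2

end Nat

variable {X : Scheme.{u}}

/-- `O[y]`. -/
abbrev uSh (X : Scheme.{u}) (y : ℤ) : Cx X := (unitCx X)⟦y⟧

/-- Tensoring with `O[y]` is the shift. -/
def tRShiftIso (y : ℤ) : Gen.tR (Tb X) (uSh X y) ≅ shiftFunctor (Cx X) y :=
  NatIso.ofComponents
    (fun N => CochainComplex.mapBifunctorShift₂Iso N (unitCx X) (Tb X) y ≪≫
      (shiftFunctor (Cx X) y).mapIso (unitNat.app N))
    (fun {N N'} f => by
      have h1 := mapBifunctorShift₂Iso_naturality₁ f (unitCx X) (Tb X) y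
      have h2 := (unitNat (X := X)).hom.naturality f
      simp only [Functor.id_map] at h2
      show mapBifunctorMap f (𝟙 (uSh X y)) (Tb X) (ComplexShape.up ℤ) ≫ _ ≫ _ = _
      rw [reassoc_of% h1, Iso.trans_hom, Category.assoc]
      congr 1
      show (shiftFunctor (Cx X) y).map _ ≫ (shiftFunctor (Cx X) y).map _ =
        (shiftFunctor (Cx X) y).map _ ≫ (shiftFunctor (Cx X) y).map _
      rw [← Functor.map_comp, ← Functor.map_comp]
      exact congrArg _ h2)

/-- Internal homs out of `O[y]` are shifts. -/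
def gShiftIso (y : ℤ) : Gen.G (Tb X) (uSh X y) ≅ shiftFunctor (Cx X) (-y) :=
  ((Gen.gAdj (Tb X) (uSh X y)).ofNatIsoLeft (tRShiftIso y)).rightAdjointUniq
    (shiftEquiv' (Cx X) y (-y) (add_neg_cancel y)).toAdjunction

theorem isIso_counit_uSh (y : ℤ) (I : Cx X) :
    IsIso ((Gen.gAdj (Tb X) (uSh X y)).counit.app I) := by
  haveI : (Gen.G (Tb X) (uSh X y)).IsEquivalence := Functor.isEquivalence_of_iso (gShiftIso y).symm
  infer_instance

theorem isKFlat_uSh (y : ℤ) : DCoh.IsKFlat (uSh X y) :=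
  KFlatLib.isKFlat_of_stalks _ fun x => KFlatLib.isKFlat_ring_of_iso
    (((KFlatLib.stalkCx X x).commShiftIso y).app (unitCx X)).symm
    (KFlatLib.isKFlat_shift (KFlatLib.stalks_isKFlat
      (KFlatLib.isKFlat_of_isStrictlyPerfect (isStrictlyPerfect_unitCx X)) x) y)

theorem refl_shift_iff {U : X.Opens} {I : Cx X} [I.IsKInjective] (C : Cx X) :
    BidualSchLib.Refl U I C ↔ BidualSchLib.Refl U I (C⟦(1 : ℤ)⟧) := by
  let S := CochainComplex.mappingCone.triangleRotateShortComplex (𝟙 C)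
  have hS : KFlatLib.DegSplit S := CochainComplex.mappingCone.triangleRotateShortComplexSplitting (𝟙 C)
  have h2 : BidualSchLib.Refl U I S.X₂ := BidualSchLib.refl_contractible (KFlatLib.coneIdContractible _)
  exact ⟨fun h => (BidualSchLib.refl_ext hS).2.2 h h2, fun h => (BidualSchLib.refl_ext hS).1 h2 h⟩

theorem refl_uSh {U : X.Opens} {I : Cx X} [I.IsKInjective] (h : BidualSchLib.Refl U I (unitCx X)) (y : ℤ) :
    BidualSchLib.Refl U I (uSh X y) := by
  let e (a b c : ℤ) (hc : a + b = c) : (shiftFunctor (Cx X) b).obj (uSh X a) ≅ uSh X c :=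
    ((shiftFunctorAdd' (Cx X) a b c hc).app (unitCx X)).symm
  induction y using Int.induction_on with
  | zero => exact (BidualSchLib.refl_qis ((shiftFunctorZero (Cx X) ℤ).app (unitCx X)).hom (QisOn.of_quasiIso U _)).2 h
  | succ k ih => exact (BidualSchLib.refl_qis (e k 1 (k + 1) rfl).hom (QisOn.of_quasiIso U _)).1 ((refl_shift_iff _).1 ih)
  | pred k ih =>
    exact (refl_shift_iff _).2
      ((BidualSchLib.refl_qis (e (-(k : ℤ) - 1) 1 (-(k : ℤ)) (by omega)).hom (QisOn.of_quasiIso U _)).2 ih)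

end UniqDualSchLib
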